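import Cfsg.Agent.Lib.SchurMult.TwoCollect

/-! Collector certificate for a Sylow `2`-subgroup of J3. -/

set_option autoImplicit false
set_option maxRecDepth 100000

namespace CfsgLib.J3Mult

open CfsgLib.SchurMult

/-- Part of a collection table. -/
def tblJ3_0_0 : Trie := (.node (.node (.node (.node (.leaf 1) (.leaf 17179869249)) (.node (.leaf 8589934597) (.leaf 25769803845))) (.node (.node (.leaf 4294967313) (.leaf 21474836561)) (.node (.leaf 12885426261) (.leaf 30065295509)))) (.node (.node (.node (.leaf 2147483651) (.leaf 19327352899)) (.node (.leaf 10737418247) (.leaf 27917287495))) (.node (.node (.leaf 6442450963) (.leaf 23622320211)) (.node (.leaf 15032909911) (.leaf 32212779159)))))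

/-- Part of a collection table. -/
def tblJ3_0_1 : Trie := (.node (.node (.node (.node (.leaf 268435456) (.leaf 17448304704)) (.node (.leaf 8858370052) (.leaf 26038239300))) (.node (.node (.leaf 4563402768) (.leaf 21743272016)) (.node (.leaf 13153861716) (.leaf 30333730964)))) (.node (.node (.node (.leaf 2415919106) (.leaf 19595788354)) (.node (.leaf 11005853702) (.leaf 28185722950))) (.node (.node (.leaf 6710886418) (.leaf 23890755666)) (.node (.leaf 15301345366) (.leaf 32481214614)))))

/-- Part of a collection table. -/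
def tblJ3_0_2 : Trie := (.node (.node (.node (.node (.leaf 536870921) (.leaf 17716740169)) (.node (.leaf 9127067709) (.leaf 26306936957))) (.node (.node (.leaf 4831838233) (.leaf 22011707481)) (.node (.leaf 13422562477) (.leaf 30602431725)))) (.node (.node (.node (.leaf 2701131871) (.leaf 19881001119)) (.node (.leaf 11294084331) (.leaf 28473953323))) (.node (.node (.leaf 6996104271) (.leaf 24175973519)) (.node (.leaf 15588529275) (.leaf 32768398523)))))

/-- Part of a collection table. -/
def tblJ3_0_3 : Trie := (.node (.node (.node (.node (.leaf 805306376) (.leaf 17985175624)) (.node (.leaf 9395503164) (.leaf 26575372412))) (.node (.node (.leaf 5100273688) (.leaf 22280142936)) (.node (.leaf 13690997932) (.leaf 30870867180)))) (.node (.node (.node (.leaf 2969567326) (.leaf 20149436574)) (.node (.leaf 11562519786) (.leaf 28742388778))) (.node (.node (.leaf 7264539726) (.leaf 24444408974)) (.node (.leaf 15856964730) (.leaf 33036833978)))))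

/-- Part of a collection table. -/
def tblJ3_0_4 : Trie := (.node (.node (.node (.node (.leaf 1073741857) (.leaf 18253611105)) (.node (.leaf 9664725029) (.leaf 26844594277))) (.node (.node (.leaf 5368711281) (.leaf 22548580529)) (.node (.leaf 13962316469) (.leaf 31142185717)))) (.node (.node (.node (.leaf 3288334455) (.leaf 20468203703)) (.node (.leaf 11882070707) (.leaf 29061939955))) (.node (.node (.leaf 7583308967) (.leaf 24763178215)) (.node (.leaf 16174423203) (.leaf 33354292451)))))

/-- Part of a collection table. -/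
def tblJ3_0_5 : Trie := (.node (.node (.node (.node (.leaf 1342177312) (.leaf 18522046560)) (.node (.leaf 9933160484) (.leaf 27113029732))) (.node (.node (.leaf 5637146736) (.leaf 22817015984)) (.node (.leaf 14230751924) (.leaf 31410621172)))) (.node (.node (.node (.leaf 3556769910) (.leaf 20736639158)) (.node (.leaf 12150506162) (.leaf 29330375410))) (.node (.node (.leaf 7851744422) (.leaf 25031613670)) (.node (.leaf 16442858658) (.leaf 33622727906)))))

/-- Part of a collection table. -/
def tblJ3_0_6 : Trie := (.node (.node (.node (.node (.leaf 1610612777) (.leaf 18790482025)) (.node (.leaf 10201858333) (.leaf 27381727581))) (.node (.node (.leaf 5905582201) (.leaf 23085451449)) (.node (.leaf 14499448269) (.leaf 31679317261)))) (.node (.node (.node (.leaf 3845002587) (.leaf 21024871835)) (.node (.leaf 12432054767) (.leaf 29611923759))) (.node (.node (.leaf 8139964747) (.leaf 25319833995)) (.node (.leaf 16727540095) (.leaf 33907409343)))))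

/-- Part of a collection table. -/
def tblJ3_0_7 : Trie := (.node (.node (.node (.node (.leaf 1879048232) (.leaf 19058917480)) (.node (.leaf 10470293788) (.leaf 27650163036))) (.node (.node (.leaf 6174017656) (.leaf 23353886904)) (.node (.leaf 14767883724) (.leaf 31947752716)))) (.node (.node (.node (.leaf 4113438042) (.leaf 21293307290)) (.node (.leaf 12700490222) (.leaf 29880359214))) (.node (.node (.leaf 8408400202) (.leaf 25588269450)) (.node (.leaf 16995975550) (.leaf 34175844798)))))

/-- Part of a collection table. -/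
def tblJ3_1_0 : Trie := (.node (.node (.node (.node (.leaf 2) (.leaf 134217794)) (.node (.leaf 67108982) (.leaf 201326774))) (.node (.node (.leaf 33554438) (.leaf 167772230)) (.node (.leaf 100794482) (.leaf 235012274)))) (.node (.node (.node (.leaf 16777310) (.leaf 150995102)) (.node (.leaf 86906202) (.leaf 221123994))) (.node (.node (.leaf 53349610) (.leaf 187567146)) (.node (.leaf 119151406) (.leaf 253369198)))))

/-- Part of a collection table. -/
def tblJ3_1_1 : Trie := (.node (.node (.node (.node (.leaf 3) (.leaf 134217795)) (.node (.leaf 67108983) (.leaf 201326775))) (.node (.node (.leaf 33554439) (.leaf 167772231)) (.node (.leaf 100794483) (.leaf 235012275)))) (.node (.node (.node (.leaf 16777311) (.leaf 150995103)) (.node (.leaf 86906203) (.leaf 221123995))) (.node (.node (.leaf 53349611) (.leaf 187567147)) (.node (.leaf 119151407) (.leaf 253369199)))))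

/-- Part of a collection table. -/
def tblJ3_1_2 : Trie := (.node (.node (.node (.node (.leaf 4194324) (.leaf 138412116)) (.node (.leaf 71964320) (.leaf 206182112))) (.node (.node (.leaf 38404176) (.leaf 172621968)) (.node (.leaf 107087076) (.leaf 241304612)))) (.node (.node (.node (.leaf 21715192) (.leaf 155932728)) (.node (.leaf 91703228) (.leaf 225921020))) (.node (.node (.leaf 58152268) (.leaf 192370060)) (.node (.leaf 122767560) (.leaf 256985096)))))

/-- Part of a collection table. -/
def tblJ3_1_3 : Trie := (.node (.node (.node (.node (.leaf 4194325) (.leaf 138412117)) (.node (.leaf 71964321) (.leaf 206182113))) (.node (.node (.leaf 38404177) (.leaf 172621969)) (.node (.leaf 107087077) (.leaf 241304613)))) (.node (.node (.node (.leaf 21715193) (.leaf 155932729)) (.node (.leaf 91703229) (.leaf 225921021))) (.node (.node (.leaf 58152269) (.leaf 192370061)) (.node (.leaf 122767561) (.leaf 256985097)))))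

/-- Part of a collection table. -/
def tblJ3_1_4 : Trie := (.node (.node (.node (.node (.leaf 8388690) (.leaf 142606482)) (.node (.leaf 78120166) (.leaf 212337702))) (.node (.node (.leaf 44564630) (.leaf 178782422)) (.node (.leaf 111285794) (.leaf 245503586)))) (.node (.node (.node (.leaf 27805758) (.leaf 162023550)) (.node (.leaf 95831546) (.leaf 230049082))) (.node (.node (.leaf 62277002) (.leaf 196494794)) (.node (.leaf 129124878) (.leaf 263342670)))))

/-- Part of a collection table. -/
def tblJ3_1_5 : Trie := (.node (.node (.node (.node (.leaf 8388691) (.leaf 142606483)) (.node (.leaf 78120167) (.leaf 212337703))) (.node (.node (.leaf 44564631) (.leaf 178782423)) (.node (.leaf 111285795) (.leaf 245503587)))) (.node (.node (.node (.leaf 27805759) (.leaf 162023551)) (.node (.leaf 95831547) (.leaf 230049083))) (.node (.node (.leaf 62277003) (.leaf 196494795)) (.node (.leaf 129124879) (.leaf 263342671)))))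

/-- Part of a collection table. -/
def tblJ3_1_6 : Trie := (.node (.node (.node (.node (.leaf 12584004) (.leaf 146801796)) (.node (.leaf 81925808) (.leaf 216143600))) (.node (.node (.leaf 48366656) (.leaf 182584448)) (.node (.leaf 113383092) (.leaf 247600884)))) (.node (.node (.node (.leaf 31659160) (.leaf 165876952)) (.node (.leaf 99554204) (.leaf 233771996))) (.node (.node (.leaf 66000940) (.leaf 200218732)) (.node (.leaf 133766504) (.leaf 267984296)))))

/-- Part of a collection table. -/
def tblJ3_1_7 : Trie := (.node (.node (.node (.node (.leaf 12584005) (.leaf 146801797)) (.node (.leaf 81925809) (.leaf 216143601))) (.node (.node (.leaf 48366657) (.leaf 182584449)) (.node (.leaf 113383093) (.leaf 247600885)))) (.node (.node (.node (.leaf 31659161) (.leaf 165876953)) (.node (.leaf 99554205) (.leaf 233771997))) (.node (.node (.leaf 66000941) (.leaf 200218733)) (.node (.leaf 133766505) (.leaf 267984297)))))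

/-- Part of a collection table. -/
def tblJ3_2_0 : Trie := (.node (.node (.node (.node (.leaf 4) (.leaf 2097220)) (.node (.leaf 1048612) (.leaf 3145828))) (.node (.node (.leaf 524372) (.leaf 2621588)) (.node (.leaf 1573492) (.leaf 3670708)))) (.node (.node (.node (.leaf 262204) (.leaf 2359420)) (.node (.leaf 1311004) (.leaf 3408220))) (.node (.node (.leaf 789676) (.leaf 2886892)) (.node (.leaf 1838476) (.leaf 3935692)))))

/-- Part of a collection table. -/
def tblJ3_2_1 : Trie := (.node (.node (.node (.node (.leaf 5) (.leaf 2097221)) (.node (.leaf 1048613) (.leaf 3145829))) (.node (.node (.leaf 524373) (.leaf 2621589)) (.node (.leaf 1573493) (.leaf 3670709)))) (.node (.node (.node (.leaf 262205) (.leaf 2359421)) (.node (.leaf 1311005) (.leaf 3408221))) (.node (.node (.leaf 789677) (.leaf 2886893)) (.node (.leaf 1838477) (.leaf 3935693)))))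

/-- Part of a collection table. -/
def tblJ3_2_2 : Trie := (.node (.node (.node (.node (.leaf 6) (.leaf 2097222)) (.node (.leaf 1048614) (.leaf 3145830))) (.node (.node (.leaf 524374) (.leaf 2621590)) (.node (.leaf 1573494) (.leaf 3670710)))) (.node (.node (.node (.leaf 262206) (.leaf 2359422)) (.node (.leaf 1311006) (.leaf 3408222))) (.node (.node (.leaf 789678) (.leaf 2886894)) (.node (.leaf 1838478) (.leaf 3935694)))))

/-- Part of a collection table. -/
def tblJ3_2_3 : Trie := (.node (.node (.node (.node (.leaf 7) (.leaf 2097223)) (.node (.leaf 1048615) (.leaf 3145831))) (.node (.node (.leaf 524375) (.leaf 2621591)) (.node (.leaf 1573495) (.leaf 3670711)))) (.node (.node (.node (.leaf 262207) (.leaf 2359423)) (.node (.leaf 1311007) (.leaf 3408223))) (.node (.node (.leaf 789679) (.leaf 2886895)) (.node (.leaf 1838479) (.leaf 3935695)))))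

/-- Part of a collection table. -/
def tblJ3_2_4 : Trie := (.node (.node (.node (.node (.leaf 131072) (.leaf 2228288)) (.node (.leaf 1179680) (.leaf 3276896))) (.node (.node (.leaf 655440) (.leaf 2752656)) (.node (.leaf 1704560) (.leaf 3801776)))) (.node (.node (.node (.leaf 393272) (.leaf 2490488)) (.node (.leaf 1442072) (.leaf 3539288))) (.node (.node (.leaf 920744) (.leaf 3017960)) (.node (.leaf 1969544) (.leaf 4066760)))))

/-- Part of a collection table. -/
def tblJ3_2_5 : Trie := (.node (.node (.node (.node (.leaf 131073) (.leaf 2228289)) (.node (.leaf 1179681) (.leaf 3276897))) (.node (.node (.leaf 655441) (.leaf 2752657)) (.node (.leaf 1704561) (.leaf 3801777)))) (.node (.node (.node (.leaf 393273) (.leaf 2490489)) (.node (.leaf 1442073) (.leaf 3539289))) (.node (.node (.leaf 920745) (.leaf 3017961)) (.node (.leaf 1969545) (.leaf 4066761)))))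

/-- Part of a collection table. -/
def tblJ3_2_6 : Trie := (.node (.node (.node (.node (.leaf 131074) (.leaf 2228290)) (.node (.leaf 1179682) (.leaf 3276898))) (.node (.node (.leaf 655442) (.leaf 2752658)) (.node (.leaf 1704562) (.leaf 3801778)))) (.node (.node (.node (.leaf 393274) (.leaf 2490490)) (.node (.leaf 1442074) (.leaf 3539290))) (.node (.node (.leaf 920746) (.leaf 3017962)) (.node (.leaf 1969546) (.leaf 4066762)))))

/-- Part of a collection table. -/
def tblJ3_2_7 : Trie := (.node (.node (.node (.node (.leaf 131075) (.leaf 2228291)) (.node (.leaf 1179683) (.leaf 3276899))) (.node (.node (.leaf 655443) (.leaf 2752659)) (.node (.leaf 1704563) (.leaf 3801779)))) (.node (.node (.node (.leaf 393275) (.leaf 2490491)) (.node (.leaf 1442075) (.leaf 3539291))) (.node (.node (.leaf 920747) (.leaf 3017963)) (.node (.leaf 1969547) (.leaf 4066763)))))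

/-- Part of a collection table. -/
def tblJ3_3_0 : Trie := (.node (.node (.node (.node (.leaf 8) (.leaf 65608)) (.node (.leaf 32856) (.leaf 98456))) (.node (.node (.leaf 16424) (.leaf 82024)) (.node (.leaf 51384) (.leaf 116984)))) (.node (.node (.node (.leaf 8304) (.leaf 73904)) (.node (.leaf 48352) (.leaf 113696))) (.node (.node (.leaf 25424) (.leaf 91024)) (.node (.leaf 63360) (.leaf 128960)))))

/-- Part of a collection table. -/
def tblJ3_3_1 : Trie := (.node (.node (.node (.node (.leaf 9) (.leaf 65609)) (.node (.leaf 32857) (.leaf 98457))) (.node (.node (.leaf 16425) (.leaf 82025)) (.node (.leaf 51385) (.leaf 116985)))) (.node (.node (.node (.leaf 8305) (.leaf 73905)) (.node (.leaf 48353) (.leaf 113697))) (.node (.node (.leaf 25425) (.leaf 91025)) (.node (.leaf 63361) (.leaf 128961)))))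

/-- Part of a collection table. -/
def tblJ3_3_2 : Trie := (.node (.node (.node (.node (.leaf 10) (.leaf 65610)) (.node (.leaf 32858) (.leaf 98458))) (.node (.node (.leaf 16426) (.leaf 82026)) (.node (.leaf 51386) (.leaf 116986)))) (.node (.node (.node (.leaf 8306) (.leaf 73906)) (.node (.leaf 48354) (.leaf 113698))) (.node (.node (.leaf 25426) (.leaf 91026)) (.node (.leaf 63362) (.leaf 128962)))))

/-- Part of a collection table. -/
def tblJ3_3_3 : Trie := (.node (.node (.node (.node (.leaf 11) (.leaf 65611)) (.node (.leaf 32859) (.leaf 98459))) (.node (.node (.leaf 16427) (.leaf 82027)) (.node (.leaf 51387) (.leaf 116987)))) (.node (.node (.node (.leaf 8307) (.leaf 73907)) (.node (.leaf 48355) (.leaf 113699))) (.node (.node (.leaf 25427) (.leaf 91027)) (.node (.leaf 63363) (.leaf 128963)))))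

/-- Part of a collection table. -/
def tblJ3_3_4 : Trie := (.node (.node (.node (.node (.leaf 12) (.leaf 65612)) (.node (.leaf 32860) (.leaf 98460))) (.node (.node (.leaf 16428) (.leaf 82028)) (.node (.leaf 51388) (.leaf 116988)))) (.node (.node (.node (.leaf 8308) (.leaf 73908)) (.node (.leaf 48356) (.leaf 113700))) (.node (.node (.leaf 25428) (.leaf 91028)) (.node (.leaf 63364) (.leaf 128964)))))

/-- Part of a collection table. -/
def tblJ3_3_5 : Trie := (.node (.node (.node (.node (.leaf 13) (.leaf 65613)) (.node (.leaf 32861) (.leaf 98461))) (.node (.node (.leaf 16429) (.leaf 82029)) (.node (.leaf 51389) (.leaf 116989)))) (.node (.node (.node (.leaf 8309) (.leaf 73909)) (.node (.leaf 48357) (.leaf 113701))) (.node (.node (.leaf 25429) (.leaf 91029)) (.node (.leaf 63365) (.leaf 128965)))))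

/-- Part of a collection table. -/
def tblJ3_3_6 : Trie := (.node (.node (.node (.node (.leaf 14) (.leaf 65614)) (.node (.leaf 32862) (.leaf 98462))) (.node (.node (.leaf 16430) (.leaf 82030)) (.node (.leaf 51390) (.leaf 116990)))) (.node (.node (.node (.leaf 8310) (.leaf 73910)) (.node (.leaf 48358) (.leaf 113702))) (.node (.node (.leaf 25430) (.leaf 91030)) (.node (.leaf 63366) (.leaf 128966)))))

/-- Part of a collection table. -/
def tblJ3_3_7 : Trie := (.node (.node (.node (.node (.leaf 15) (.leaf 65615)) (.node (.leaf 32863) (.leaf 98463))) (.node (.node (.leaf 16431) (.leaf 82031)) (.node (.leaf 51391) (.leaf 116991)))) (.node (.node (.node (.leaf 8311) (.leaf 73911)) (.node (.leaf 48359) (.leaf 113703))) (.node (.node (.leaf 25431) (.leaf 91031)) (.node (.leaf 63367) (.leaf 128967)))))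

/-- Part of a collection table. -/
def tblJ3_4_0 : Trie := (.node (.node (.node (.node (.leaf 16) (.leaf 4176)) (.node (.leaf 2160) (.leaf 6320))) (.node (.node (.leaf 1024) (.leaf 5184)) (.node (.leaf 3168) (.leaf 7328)))) (.node (.node (.node (.leaf 24) (.leaf 4184)) (.node (.leaf 2168) (.leaf 6328))) (.node (.node (.leaf 1032) (.leaf 5192)) (.node (.leaf 3176) (.leaf 7336)))))

/-- Part of a collection table. -/
def tblJ3_4_1 : Trie := (.node (.node (.node (.node (.leaf 17) (.leaf 4177)) (.node (.leaf 2161) (.leaf 6321))) (.node (.node (.leaf 1025) (.leaf 5185)) (.node (.leaf 3169) (.leaf 7329)))) (.node (.node (.node (.leaf 25) (.leaf 4185)) (.node (.leaf 2169) (.leaf 6329))) (.node (.node (.leaf 1033) (.leaf 5193)) (.node (.leaf 3177) (.leaf 7337)))))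

/-- Part of a collection table. -/
def tblJ3_4_2 : Trie := (.node (.node (.node (.node (.leaf 18) (.leaf 4178)) (.node (.leaf 2162) (.leaf 6322))) (.node (.node (.leaf 1026) (.leaf 5186)) (.node (.leaf 3170) (.leaf 7330)))) (.node (.node (.node (.leaf 26) (.leaf 4186)) (.node (.leaf 2170) (.leaf 6330))) (.node (.node (.leaf 1034) (.leaf 5194)) (.node (.leaf 3178) (.leaf 7338)))))

/-- Part of a collection table. -/
def tblJ3_4_3 : Trie := (.node (.node (.node (.node (.leaf 19) (.leaf 4179)) (.node (.leaf 2163) (.leaf 6323))) (.node (.node (.leaf 1027) (.leaf 5187)) (.node (.leaf 3171) (.leaf 7331)))) (.node (.node (.node (.leaf 27) (.leaf 4187)) (.node (.leaf 2171) (.leaf 6331))) (.node (.node (.leaf 1035) (.leaf 5195)) (.node (.leaf 3179) (.leaf 7339)))))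

/-- Part of a collection table. -/
def tblJ3_4_4 : Trie := (.node (.node (.node (.node (.leaf 20) (.leaf 4180)) (.node (.leaf 2164) (.leaf 6324))) (.node (.node (.leaf 1028) (.leaf 5188)) (.node (.leaf 3172) (.leaf 7332)))) (.node (.node (.node (.leaf 28) (.leaf 4188)) (.node (.leaf 2172) (.leaf 6332))) (.node (.node (.leaf 1036) (.leaf 5196)) (.node (.leaf 3180) (.leaf 7340)))))

/-- Part of a collection table. -/
def tblJ3_4_5 : Trie := (.node (.node (.node (.node (.leaf 21) (.leaf 4181)) (.node (.leaf 2165) (.leaf 6325))) (.node (.node (.leaf 1029) (.leaf 5189)) (.node (.leaf 3173) (.leaf 7333)))) (.node (.node (.node (.leaf 29) (.leaf 4189)) (.node (.leaf 2173) (.leaf 6333))) (.node (.node (.leaf 1037) (.leaf 5197)) (.node (.leaf 3181) (.leaf 7341)))))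

/-- Part of a collection table. -/
def tblJ3_4_6 : Trie := (.node (.node (.node (.node (.leaf 22) (.leaf 4182)) (.node (.leaf 2166) (.leaf 6326))) (.node (.node (.leaf 1030) (.leaf 5190)) (.node (.leaf 3174) (.leaf 7334)))) (.node (.node (.node (.leaf 30) (.leaf 4190)) (.node (.leaf 2174) (.leaf 6334))) (.node (.node (.leaf 1038) (.leaf 5198)) (.node (.leaf 3182) (.leaf 7342)))))

/-- Part of a collection table. -/
def tblJ3_4_7 : Trie := (.node (.node (.node (.node (.leaf 23) (.leaf 4183)) (.node (.leaf 2167) (.leaf 6327))) (.node (.node (.leaf 1031) (.leaf 5191)) (.node (.leaf 3175) (.leaf 7335)))) (.node (.node (.node (.leaf 31) (.leaf 4191)) (.node (.leaf 2175) (.leaf 6335))) (.node (.node (.leaf 1039) (.leaf 5199)) (.node (.leaf 3183) (.leaf 7343)))))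

/-- Part of a collection table. -/
def tblJ3_5_0 : Trie := (.node (.node (.node (.node (.leaf 32) (.leaf 608)) (.node (.leaf 256) (.leaf 832))) (.node (.node (.leaf 48) (.leaf 624)) (.node (.leaf 272) (.leaf 848)))) (.node (.node (.node (.leaf 40) (.leaf 616)) (.node (.leaf 264) (.leaf 840))) (.node (.node (.leaf 56) (.leaf 632)) (.node (.leaf 280) (.leaf 856)))))

/-- Part of a collection table. -/
def tblJ3_5_1 : Trie := (.node (.node (.node (.node (.leaf 33) (.leaf 609)) (.node (.leaf 257) (.leaf 833))) (.node (.node (.leaf 49) (.leaf 625)) (.node (.leaf 273) (.leaf 849)))) (.node (.node (.node (.leaf 41) (.leaf 617)) (.node (.leaf 265) (.leaf 841))) (.node (.node (.leaf 57) (.leaf 633)) (.node (.leaf 281) (.leaf 857)))))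

/-- Part of a collection table. -/
def tblJ3_5_2 : Trie := (.node (.node (.node (.node (.leaf 34) (.leaf 610)) (.node (.leaf 258) (.leaf 834))) (.node (.node (.leaf 50) (.leaf 626)) (.node (.leaf 274) (.leaf 850)))) (.node (.node (.node (.leaf 42) (.leaf 618)) (.node (.leaf 266) (.leaf 842))) (.node (.node (.leaf 58) (.leaf 634)) (.node (.leaf 282) (.leaf 858)))))

/-- Part of a collection table. -/
def tblJ3_5_3 : Trie := (.node (.node (.node (.node (.leaf 35) (.leaf 611)) (.node (.leaf 259) (.leaf 835))) (.node (.node (.leaf 51) (.leaf 627)) (.node (.leaf 275) (.leaf 851)))) (.node (.node (.node (.leaf 43) (.leaf 619)) (.node (.leaf 267) (.leaf 843))) (.node (.node (.leaf 59) (.leaf 635)) (.node (.leaf 283) (.leaf 859)))))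

/-- Part of a collection table. -/
def tblJ3_5_4 : Trie := (.node (.node (.node (.node (.leaf 36) (.leaf 612)) (.node (.leaf 260) (.leaf 836))) (.node (.node (.leaf 52) (.leaf 628)) (.node (.leaf 276) (.leaf 852)))) (.node (.node (.node (.leaf 44) (.leaf 620)) (.node (.leaf 268) (.leaf 844))) (.node (.node (.leaf 60) (.leaf 636)) (.node (.leaf 284) (.leaf 860)))))

/-- Part of a collection table. -/
def tblJ3_5_5 : Trie := (.node (.node (.node (.node (.leaf 37) (.leaf 613)) (.node (.leaf 261) (.leaf 837))) (.node (.node (.leaf 53) (.leaf 629)) (.node (.leaf 277) (.leaf 853)))) (.node (.node (.node (.leaf 45) (.leaf 621)) (.node (.leaf 269) (.leaf 845))) (.node (.node (.leaf 61) (.leaf 637)) (.node (.leaf 285) (.leaf 861)))))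

/-- Part of a collection table. -/
def tblJ3_5_6 : Trie := (.node (.node (.node (.node (.leaf 38) (.leaf 614)) (.node (.leaf 262) (.leaf 838))) (.node (.node (.leaf 54) (.leaf 630)) (.node (.leaf 278) (.leaf 854)))) (.node (.node (.node (.leaf 46) (.leaf 622)) (.node (.leaf 270) (.leaf 846))) (.node (.node (.leaf 62) (.leaf 638)) (.node (.leaf 286) (.leaf 862)))))

/-- Part of a collection table. -/
def tblJ3_5_7 : Trie := (.node (.node (.node (.node (.leaf 39) (.leaf 615)) (.node (.leaf 263) (.leaf 839))) (.node (.node (.leaf 55) (.leaf 631)) (.node (.leaf 279) (.leaf 855)))) (.node (.node (.node (.leaf 47) (.leaf 623)) (.node (.leaf 271) (.leaf 847))) (.node (.node (.leaf 63) (.leaf 639)) (.node (.leaf 287) (.leaf 863)))))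

/-- Part of a collection table. -/
def tblJ3_6_0 : Trie := (.node (.node (.node (.node (.leaf 64) (.leaf 128)) (.node (.leaf 96) (.leaf 160))) (.node (.node (.leaf 80) (.leaf 144)) (.node (.leaf 112) (.leaf 176)))) (.node (.node (.node (.leaf 72) (.leaf 136)) (.node (.leaf 104) (.leaf 168))) (.node (.node (.leaf 88) (.leaf 152)) (.node (.leaf 120) (.leaf 184)))))

/-- Part of a collection table. -/
def tblJ3_6_1 : Trie := (.node (.node (.node (.node (.leaf 65) (.leaf 129)) (.node (.leaf 97) (.leaf 161))) (.node (.node (.leaf 81) (.leaf 145)) (.node (.leaf 113) (.leaf 177)))) (.node (.node (.node (.leaf 73) (.leaf 137)) (.node (.leaf 105) (.leaf 169))) (.node (.node (.leaf 89) (.leaf 153)) (.node (.leaf 121) (.leaf 185)))))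

/-- Part of a collection table. -/
def tblJ3_6_2 : Trie := (.node (.node (.node (.node (.leaf 66) (.leaf 130)) (.node (.leaf 98) (.leaf 162))) (.node (.node (.leaf 82) (.leaf 146)) (.node (.leaf 114) (.leaf 178)))) (.node (.node (.node (.leaf 74) (.leaf 138)) (.node (.leaf 106) (.leaf 170))) (.node (.node (.leaf 90) (.leaf 154)) (.node (.leaf 122) (.leaf 186)))))

/-- Part of a collection table. -/
def tblJ3_6_3 : Trie := (.node (.node (.node (.node (.leaf 67) (.leaf 131)) (.node (.leaf 99) (.leaf 163))) (.node (.node (.leaf 83) (.leaf 147)) (.node (.leaf 115) (.leaf 179)))) (.node (.node (.node (.leaf 75) (.leaf 139)) (.node (.leaf 107) (.leaf 171))) (.node (.node (.leaf 91) (.leaf 155)) (.node (.leaf 123) (.leaf 187)))))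

/-- Part of a collection table. -/
def tblJ3_6_4 : Trie := (.node (.node (.node (.node (.leaf 68) (.leaf 132)) (.node (.leaf 100) (.leaf 164))) (.node (.node (.leaf 84) (.leaf 148)) (.node (.leaf 116) (.leaf 180)))) (.node (.node (.node (.leaf 76) (.leaf 140)) (.node (.leaf 108) (.leaf 172))) (.node (.node (.leaf 92) (.leaf 156)) (.node (.leaf 124) (.leaf 188)))))

/-- Part of a collection table. -/
def tblJ3_6_5 : Trie := (.node (.node (.node (.node (.leaf 69) (.leaf 133)) (.node (.leaf 101) (.leaf 165))) (.node (.node (.leaf 85) (.leaf 149)) (.node (.leaf 117) (.leaf 181)))) (.node (.node (.node (.leaf 77) (.leaf 141)) (.node (.leaf 109) (.leaf 173))) (.node (.node (.leaf 93) (.leaf 157)) (.node (.leaf 125) (.leaf 189)))))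

/-- Part of a collection table. -/
def tblJ3_6_6 : Trie := (.node (.node (.node (.node (.leaf 70) (.leaf 134)) (.node (.leaf 102) (.leaf 166))) (.node (.node (.leaf 86) (.leaf 150)) (.node (.leaf 118) (.leaf 182)))) (.node (.node (.node (.leaf 78) (.leaf 142)) (.node (.leaf 110) (.leaf 174))) (.node (.node (.leaf 94) (.leaf 158)) (.node (.leaf 126) (.leaf 190)))))

/-- Part of a collection table. -/
def tblJ3_6_7 : Trie := (.node (.node (.node (.node (.leaf 71) (.leaf 135)) (.node (.leaf 103) (.leaf 167))) (.node (.node (.leaf 87) (.leaf 151)) (.node (.leaf 119) (.leaf 183)))) (.node (.node (.node (.leaf 79) (.leaf 143)) (.node (.leaf 111) (.leaf 175))) (.node (.node (.leaf 95) (.leaf 159)) (.node (.leaf 127) (.leaf 191)))))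

/-- Collector. -/
def colJ3 : Collector where
  n := 7
  rels := [([6, 6], []),
    ([5, 5], []),
    ([6, 5], [5, 6]),
    ([4, 4], []),
    ([5, 4], [4, 5, 6]),
    ([6, 4], [4, 6]),
    ([3, 3], [4, 5, 6]),
    ([4, 3], [3, 5]),
    ([5, 3], [3, 4, 6]),
    ([6, 3], [3, 6]),
    ([2, 2], []),
    ([3, 2], [2, 3, 4, 5]),
    ([4, 2], [2, 4, 6]),
    ([5, 2], [2, 5]),
    ([6, 2], [2, 6]),
    ([1, 1], [2, 4]),
    ([2, 1], [1, 4, 6]),
    ([3, 1], [1, 2, 3, 4, 6]),
    ([4, 1], [1, 2]),
    ([5, 1], [1, 2, 4, 5, 6]),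
    ([6, 1], [1, 6]),
    ([0, 0], []),
    ([1, 0], [0, 3]),
    ([2, 0], [0, 5]),
    ([3, 0], [0, 1]),
    ([4, 0], [0, 4]),
    ([5, 0], [0, 2]),
    ([6, 0], [0, 6])]
  table := [(.node (.node (.node tblJ3_0_0 tblJ3_0_4) (.node tblJ3_0_2 tblJ3_0_6)) (.node (.node tblJ3_0_1 tblJ3_0_5) (.node tblJ3_0_3 tblJ3_0_7))),
    (.node (.node (.node tblJ3_1_0 tblJ3_1_4) (.node tblJ3_1_2 tblJ3_1_6)) (.node (.node tblJ3_1_1 tblJ3_1_5) (.node tblJ3_1_3 tblJ3_1_7))),
    (.node (.node (.node tblJ3_2_0 tblJ3_2_4) (.node tblJ3_2_2 tblJ3_2_6)) (.node (.node tblJ3_2_1 tblJ3_2_5) (.node tblJ3_2_3 tblJ3_2_7))),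
    (.node (.node (.node tblJ3_3_0 tblJ3_3_4) (.node tblJ3_3_2 tblJ3_3_6)) (.node (.node tblJ3_3_1 tblJ3_3_5) (.node tblJ3_3_3 tblJ3_3_7))),
    (.node (.node (.node tblJ3_4_0 tblJ3_4_4) (.node tblJ3_4_2 tblJ3_4_6)) (.node (.node tblJ3_4_1 tblJ3_4_5) (.node tblJ3_4_3 tblJ3_4_7))),
    (.node (.node (.node tblJ3_5_0 tblJ3_5_4) (.node tblJ3_5_2 tblJ3_5_6)) (.node (.node tblJ3_5_1 tblJ3_5_5) (.node tblJ3_5_3 tblJ3_5_7))),
    (.node (.node (.node tblJ3_6_0 tblJ3_6_4) (.node tblJ3_6_2 tblJ3_6_6)) (.node (.node tblJ3_6_1 tblJ3_6_5) (.node tblJ3_6_3 tblJ3_6_7)))]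
  eqs := [.assoc [1] 15,
    .assoc [1] 21,
    .assoc [1] 22,
    .assoc [2] 15,
    .assoc [2] 16,
    .assoc [2] 21,
    .assoc [2] 22,
    .assoc [2] 23,
    .assoc [3] 6,
    .assoc [3] 10,
    .assoc [3] 11,
    .assoc [3] 15,
    .assoc [3] 16,
    .assoc [3] 17,
    .assoc [3] 22,
    .assoc [3] 23,
    .assoc [3] 24,
    .assoc [4] 6,
    .conj 0 [(0, 0), (1, 117)] [(1, 1)],
    .conj 1 [(0, 0), (6, 70), (10, 58), (76, 60)] [(10, 6), (6, 10)],
    .conj 1 [(0, 0), (6, 70), (10, 58), (18, 84), (40, 94), (46, 88), (104, 30)] [(46, 6), (104, 6), (18, 10), (10, 18)],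
    .conj 1 [(0, 0), (6, 70), (18, 84), (64, 64)] [(6, 6), (18, 18)],
    .conj 2 [(0, 0), (4, 111)] [(4, 4)],
    .conj 3 [(0, 0), (15, 15), (27, 123), (36, 68)] [(27, 15), (15, 27)]]
  gauge := [0, 16777216, 67108864, 0, 67371008, 0, 786432]
  comb := [109268, 8683560, 144777, 8725876, 9209897, 3864, 3103353, 8485100, 939273, 134680, 8683688, 923080, 9388853, 247444, 132608, 2230545, 9236448, 1168668, 0, 0, 132617, 12879694, 2, 32, 0, 8510309, 0, 221676]

/-- Normal forms by increasing key. -/
def orderJ3 : List ℕ := [21, 18, 86, 1, 8, 19, 80, 126, 124, 88, 11, 24, 60, 15, 89, 50, 47, 101, 51, 43, 14, 67, 53, 69, 72, 6, 0, 95, 46, 81, 33, 105, 9, 117, 125, 71, 48, 31, 85, 119, 17, 38, 98, 55, 30, 107, 13, 23, 61, 16, 37, 68, 82, 96, 59, 103, 35, 36, 64, 63, 70, 45, 111, 123, 77, 20, 79, 113, 110, 106, 100, 75, 78, 49, 2, 39, 73, 99, 118, 122, 56, 22, 42, 41, 116, 12, 83, 65, 97, 84, 3, 62, 32, 104, 25, 66, 4, 40, 94, 121, 108, 114, 115, 109, 7, 10, 93, 91, 74, 5, 44, 52, 28, 87, 27, 90, 57, 54, 34, 58, 102, 112, 29, 76,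 26, 92, 127, 120]

/-- Points for the keys. -/
def ptsJ3 : List ℕ := [1524]

end CfsgLib.J3Mult
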